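import Groth.Prelude.Def_CE
import Mathlib.Algebra.Homology.HomologySequence
import Mathlib.Algebra.Homology.Refinements
import Mathlib.Algebra.Homology.HomologicalComplexAbelian
import Mathlib.Algebra.Homology.Embedding.CochainComplex
import Mathlib.CategoryTheory.Preadditive.Injective.Basic
import Mathlib.CategoryTheory.Abelian.Exact

/-!
# Cartan–Eilenberg resolutions

A bounded below complex is embedded into a complex with injective terms, cycles and cohomology by
a map injective on cohomology. Iterating on cokernels gives the resolution.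
-/

universe v u

open CategoryTheory CategoryTheory.Limits ZeroObject

namespace Groth.Agent.Lib.CERes.Basic

variable {A : Type u} [Category.{v} A] [Abelian A]

section Split

variable (W E : ℤ → A)

/-- The split complex with cohomology `W`. -/
noncomputable def split : CochainComplex A ℤ :=
  CochainComplex.of (fun p => W p ⊞ (E p ⊞ E (p + 1)))
    (fun _ => biprod.snd ≫ biprod.snd ≫ biprod.inl ≫ biprod.inr) (fun _ => by simp)

/-- Projection to `W`. -/
noncomputable def pW (p : ℤ) : (split W E).X p ⟶ W p := biprod.fst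

/-- Projection to the first copy of `E`. -/
noncomputable def pA (p : ℤ) : (split W E).X p ⟶ E p := biprod.snd ≫ biprod.fst

/-- Projection to the second copy of `E`. -/
noncomputable def pB (p : ℤ) : (split W E).X p ⟶ E (p + 1) := biprod.snd ≫ biprod.snd

/-- Maps into a term. -/
noncomputable def lift3 {p : ℤ} {T : A} (x : T ⟶ W p) (y : T ⟶ E p) (z : T ⟶ E (p + 1)) :
    T ⟶ (split W E).X p :=
  biprod.lift x (biprod.lift y z)

@[reassoc (attr := simp)]
lemma lift3_pW {p : ℤ} {T : A} (x : T ⟶ W p) (y : T ⟶ E p) (z : T ⟶ E (p + 1)) :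
    lift3 W E x y z ≫ pW W E p = x :=
  biprod.lift_fst _ _

@[reassoc (attr := simp)]
lemma lift3_pA {p : ℤ} {T : A} (x : T ⟶ W p) (y : T ⟶ E p) (z : T ⟶ E (p + 1)) :
    lift3 W E x y z ≫ pA W E p = y :=
  (biprod.lift_snd_assoc _ _ _).trans (biprod.lift_fst _ _)

@[reassoc (attr := simp)]
lemma lift3_pB {p : ℤ} {T : A} (x : T ⟶ W p) (y : T ⟶ E p) (z : T ⟶ E (p + 1)) :
    lift3 W E x y z ≫ pB W E p = z :=
  (biprod.lift_snd_assoc _ _ _).trans (biprod.lift_snd _ _)

lemma ext3 {p : ℤ} {T : A} {u u' : T ⟶ (split W E).X p} (h₁ : u ≫ pW W E p = u' ≫ pW W E p)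
    (h₂ : u ≫ pA W E p = u' ≫ pA W E p) (h₃ : u ≫ pB W E p = u' ≫ pB W E p) : u = u' :=
  biprod.hom_ext _ _ h₁ (biprod.hom_ext _ _ ((Category.assoc _ _ _).trans
    (h₂.trans (Category.assoc _ _ _).symm)) ((Category.assoc _ _ _).trans
    (h₃.trans (Category.assoc _ _ _).symm)))

lemma split_d (p : ℤ) : (split W E).d p (p + 1) = pB W E p ≫ lift3 W E 0 (𝟙 _) 0 := by
  refine ext3 W E ?_ ?_ ?_ <;> simp [split, pW, pA, pB, lift3]

@[reassoc (attr := simp)]
lemma d_pW (p : ℤ) : (split W E).d p (p + 1) ≫ pW W E (p + 1) = 0 := by simp [split_d]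

@[reassoc (attr := simp)]
lemma d_pA (p : ℤ) : (split W E).d p (p + 1) ≫ pA W E (p + 1) = pB W E p := by simp [split_d]

@[reassoc (attr := simp)]
lemma d_pB (p : ℤ) : (split W E).d p (p + 1) ≫ pB W E (p + 1) = 0 := by simp [split_d]

lemma lift3_d {p : ℤ} {T : A} (x : T ⟶ W p) (y : T ⟶ E p) :
    lift3 W E x y 0 ≫ (split W E).d p (p + 1) = 0 := by
  simp [split_d]

lemma iCycles_pB (p : ℤ) : (split W E).iCycles p ≫ pB W E p = 0 := by
  have h := congrArg (· ≫ pA W E (p + 1)) ((split W E).iCycles_d p (p + 1))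
  simp only [Category.assoc, d_pA, zero_comp] at h
  exact h

lemma injective_cycles [∀ p, Injective (W p)] [∀ p, Injective (E p)] (p : ℤ) :
    Injective ((split W E).cycles p) :=
  ({ i := (split W E).iCycles p ≫ biprod.lift (pW W E p) (pA W E p)
     r := (split W E).liftCycles (lift3 W E biprod.fst biprod.snd 0) (p + 1) (by simp)
        (lift3_d W E _ _)
     retract := by
      rw [← cancel_mono ((split W E).iCycles p), Category.assoc, HomologicalComplex.liftCycles_i,
        Category.id_comp]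
      refine ext3 W E ?_ ?_ ?_ <;> simp [iCycles_pB] } : Retract _ (W p ⊞ E p)).injective

/-- The projection to the cohomology. -/
noncomputable def proj (p : ℤ) : (split W E).homology p ⟶ W p :=
  ((split W E).sc p).descHomology ((split W E).iCycles p ≫ pW W E p) (by
    obtain ⟨m, rfl⟩ : ∃ m, p = m + 1 := ⟨p - 1, by omega⟩
    have e : (ComplexShape.up ℤ).prev (m + 1) = m := by simp
    change (split W E).toCycles ((ComplexShape.up ℤ).prev (m + 1)) (m + 1) ≫ _ = 0
    rw [e]
    exact (Category.assoc _ _ _).symm.trans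
      ((congrArg (· ≫ pW W E (m + 1)) ((split W E).toCycles_i m (m + 1))).trans (d_pW W E m)))

@[reassoc]
lemma π_proj (p : ℤ) :
    (split W E).homologyπ p ≫ proj W E p = (split W E).iCycles p ≫ pW W E p :=
  ((split W E).sc p).π_descHomology _ _

lemma injective_homology [∀ p, Injective (W p)] [∀ p, Injective (E p)] (p : ℤ) :
    Injective ((split W E).homology p) :=
  ({ i := proj W E p
     r := (split W E).liftCycles (lift3 W E (𝟙 _) 0 0) (p + 1) (by simp) (lift3_d W E _ _) ≫
        (split W E).homologyπ p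
     retract := by
      rw [← cancel_epi ((split W E).homologyπ p), Category.comp_id, π_proj_assoc]
      obtain ⟨m, rfl⟩ : ∃ m, p = m + 1 := ⟨p - 1, by omega⟩
      rw [← Category.assoc (pW W E (m + 1)), ← Category.assoc ((split W E).iCycles (m + 1)),
        HomologicalComplex.comp_liftCycles, HomologicalComplex.comp_liftCycles, ← sub_eq_zero]
      conv_lhs => arg 2; rw [← Category.id_comp ((split W E).homologyπ (m + 1))]
      rw [← Preadditive.sub_comp]
      refine ((split W E).comp_homologyπ_eq_zero_iff_up_to_refinements m (m + 1) (by simp) _).2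
        ⟨_, 𝟙 _, inferInstance,
          -((split W E).iCycles (m + 1) ≫ pA W E (m + 1) ≫ lift3 W E 0 0 (𝟙 _)), ?_⟩
      rw [← cancel_mono ((split W E).iCycles (m + 1))]
      simp only [Category.id_comp, Preadditive.sub_comp, Category.assoc,
        HomologicalComplex.liftCycles_i, HomologicalComplex.toCycles_i]
      refine ext3 W E ?_ ?_ ?_ <;> simp [iCycles_pB] } : Retract _ (W p)).injective

end Split

variable [EnoughInjectives A]

/-- The embedding used at each step. -/
lemma exists_embedding (K : CochainComplex A ℤ) (n : ℤ) [K.IsStrictlyGE n] :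
    ∃ (J : CochainComplex A ℤ) (f : K ⟶ J), J.IsStrictlyGE n ∧ Mono f ∧
      (∀ p, Injective (J.X p)) ∧ (∀ p, Injective (J.cycles p)) ∧ (∀ p, Injective (J.homology p)) ∧
      ∀ p, Mono (HomologicalComplex.homologyMap f p) := by
  have hW : ∀ p, ∃ (Y : A) (a : K.homology p ⟶ Y), Injective Y ∧ Mono a ∧ (p < n → IsZero Y) := by
    intro p
    by_cases hp : p < n
    · have hz : IsZero (K.homology p) := (K.exactAt_of_isGE n p hp).isZero_homology
      exact ⟨_, 𝟙 _, hz.injective, inferInstance, fun _ => hz⟩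
    · exact ⟨_, Injective.ι _, inferInstance, inferInstance, fun h => absurd h hp⟩
  have hE : ∀ p, ∃ (Y : A) (c : K.X p ⟶ Y), Injective Y ∧ (n < p → Mono c) ∧ (p ≤ n → IsZero Y) := by
    intro p
    by_cases hp : p ≤ n
    · exact ⟨0, 0, (isZero_zero A).injective, fun h => absurd hp (not_le.2 h), fun _ => isZero_zero A⟩
    · exact ⟨_, Injective.ι _, inferInstance, fun _ => inferInstance, fun h => absurd h hp⟩
  choose W a hW₁ ha hW₀ using hW
  choose E c hE₁ hc hE₀ using hE
  let h : ∀ p, K.X p ⟶ W p := fun p => K.pOpcycles p ≫ Injective.factorThru (a p) (K.homologyι p)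
  have hdh : ∀ p, K.d p (p + 1) ≫ h (p + 1) = 0 := fun p => by
    rw [← Category.assoc, HomologicalComplex.d_pOpcycles, zero_comp]
  have hh : ∀ p, K.iCycles p ≫ h p = K.homologyπ p ≫ a p := fun p => by
    rw [← Category.assoc, ← HomologicalComplex.homology_π_ι, Category.assoc,
      Injective.comp_factorThru]
  let f : K ⟶ split W E :=
    { f := fun p => lift3 W E (h p) (c p) (K.d p (p + 1) ≫ c (p + 1))
      comm' := fun i j hij => by
        obtain rfl : i + 1 = j := hij
        refine ext3 W E ?_ ?_ ?_ <;> simp [hdh] }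
  have hmono : ∀ p, Mono (f.f p) := fun p => Preadditive.mono_of_cancel_zero _ fun {T} x hx => by
    have h1 : x ≫ c p = 0 := by simpa [f] using hx =≫ pA W E p
    rcases lt_trichotomy p n with hp | rfl | hp
    · exact (K.isZero_of_isStrictlyGE n p hp).eq_of_tgt _ _
    · have := hc (p + 1) (by omega)
      have h2 : x ≫ K.d p (p + 1) = 0 := by
        rw [← cancel_mono (c (p + 1)), zero_comp, Category.assoc]
        simpa [f] using hx =≫ pB W E p
      have : IsIso (K.homologyπ p) :=
        K.isIso_homologyπ (p - 1) p (by simp)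
          ((K.isZero_of_isStrictlyGE p (p - 1) (by omega)).eq_of_src _ _)
      have := ha p
      have h3 : x ≫ h p = 0 := by simpa [f] using hx =≫ pW W E p
      rw [← K.liftCycles_i x (p + 1) (by simp) h2, Category.assoc, hh,
        ← Category.assoc] at h3
      rw [← K.liftCycles_i x (p + 1) (by simp) h2,
        zero_of_comp_mono (K.homologyπ p) (zero_of_comp_mono (a p) h3), zero_comp]
    · have := hc p hp
      exact zero_of_comp_mono _ h1
  refine ⟨split W E, f, ?_, HomologicalComplex.mono_of_mono_f f hmono,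
    fun p => ?_, injective_cycles W E, injective_homology W E, fun p => ?_⟩
  · rw [CochainComplex.isStrictlyGE_iff]
    intro i hi
    exact (biprod_isZero_iff _ _).2 ⟨hW₀ i hi,
      (biprod_isZero_iff _ _).2 ⟨hE₀ i (by omega), hE₀ (i + 1) (by omega)⟩⟩
  · exact inferInstanceAs (Injective (W p ⊞ (E p ⊞ E (p + 1))))
  · have := ha p
    have e : HomologicalComplex.homologyMap f p ≫ proj W E p = a p := by
      rw [← cancel_epi (K.homologyπ p), HomologicalComplex.homologyπ_naturality_assoc, π_proj,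
        HomologicalComplex.cyclesMap_i_assoc, ← hh]
      simp [f]
    exact mono_of_mono_fac e

/-- A stage of the construction. -/
structure Stage (n : ℤ) where
  obj : CochainComplex A ℤ
  ge : obj.IsStrictlyGE n

lemma exists_step (n : ℤ) (M : Stage (A := A) n) :
    ∃ (J : CochainComplex A ℤ) (M' : Stage (A := A) n) (f : M.obj ⟶ J) (g : J ⟶ M'.obj)
      (w : f ≫ g = 0), J.IsStrictlyGE n ∧ (∀ p, Injective (J.X p)) ∧
      (∀ p, Injective (J.cycles p)) ∧ (∀ p, Injective (J.homology p)) ∧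
      (∀ p, ((ShortComplex.mk f g w).map (HomologicalComplex.eval A _ p)).ShortExact) ∧
      (∀ p, ((ShortComplex.mk f g w).map (HomologicalComplex.cyclesFunctor A _ p)).ShortExact) ∧
      (∀ p, ((ShortComplex.mk f g w).map (HomologicalComplex.homologyFunctor A _ p)).ShortExact) := by
  have := M.ge
  obtain ⟨J, f, hJ, hf, i₁, i₂, i₃, hm⟩ := exists_embedding M.obj n
  let S := ShortComplex.mk f (cokernel.π f) (cokernel.condition f)
  have hS : S.ShortExact := ShortComplex.ShortExact.mk'
    (ShortComplex.exact_of_g_is_cokernel _ (cokernelIsCokernel f)) hf inferInstance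
  have hp := fun p => hS.map_of_exact (HomologicalComplex.eval A (ComplexShape.up ℤ) p)
  have hge : (cokernel f).IsStrictlyGE n := by
    rw [CochainComplex.isStrictlyGE_iff]
    intro i hi
    have := (hp i).epi_g
    exact IsZero.of_epi ((cokernel.π f).f i) (J.isZero_of_isStrictlyGE n i hi)
  have hepi : ∀ p, Epi (HomologicalComplex.homologyMap (cokernel.π f) p) := fun p => by
    have := hm (p + 1)
    exact (hS.homology_exact₃ p (p + 1) (by simp)).epi_f
      (zero_of_comp_mono (HomologicalComplex.homologyMap f (p + 1)) (hS.δ_comp p (p + 1) (by simp)))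
  refine ⟨J, ⟨_, hge⟩, f, cokernel.π f, cokernel.condition f, hJ, i₁, i₂, i₃, hp, fun p => ?_,
    fun p => ShortComplex.ShortExact.mk' (hS.homology_exact₂ p) (hm p) (hepi p)⟩
  have := (hp p).mono_f
  have hZf : Mono (HomologicalComplex.cyclesMap f p) := mono_of_mono_fac
    (HomologicalComplex.cyclesMap_i f p)
  refine ShortComplex.ShortExact.mk' ?_ hZf ?_
  · rw [ShortComplex.exact_iff_exact_up_to_refinements]
    intro T (x : T ⟶ J.cycles p) (hx : x ≫ HomologicalComplex.cyclesMap (cokernel.π f) p = 0)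
    obtain ⟨T', π, hπ, (y : T' ⟶ M.obj.X p), hy⟩ := (hp p).exact.exact_up_to_refinements (x ≫ J.iCycles p) (by
      change (x ≫ J.iCycles p) ≫ (cokernel.π f).f p = 0
      rw [Category.assoc, ← HomologicalComplex.cyclesMap_i, reassoc_of% hx, zero_comp])
    change π ≫ x ≫ J.iCycles p = y ≫ f.f p at hy
    have hyd : y ≫ M.obj.d p (p + 1) = 0 := by
      have := (hp (p + 1)).mono_f
      refine zero_of_comp_mono (f.f (p + 1)) ?_
      rw [Category.assoc, ← f.comm, ← Category.assoc, ← hy]
      simp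
    refine ⟨T', π, hπ, M.obj.liftCycles y (p + 1) (by simp) hyd, ?_⟩
    change π ≫ x = _ ≫ HomologicalComplex.cyclesMap f p
    rw [← cancel_mono (J.iCycles p), Category.assoc, Category.assoc, HomologicalComplex.cyclesMap_i,
      HomologicalComplex.liftCycles_i_assoc, hy]
  · change Epi (HomologicalComplex.cyclesMap (cokernel.π f) p)
    rw [epi_iff_surjective_up_to_refinements]
    intro T z
    obtain ⟨T₁, π₁, _, x, hx, y, hy⟩ := (HomologicalComplex.epi_homologyMap_iff_up_to_refinements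
      (cokernel.π f) (p - 1) p (p + 1) (by simp) (by simp)).1 (hepi p)
      (z ≫ (cokernel f).iCycles p) (by simp)
    have := (hp (p - 1)).epi_g
    obtain ⟨T₂, π₂, _, u, hu⟩ :=
      surjective_up_to_refinements_of_epi ((cokernel.π f).f (p - 1)) y
    refine ⟨T₂, π₂ ≫ π₁, inferInstance, J.liftCycles (π₂ ≫ x + u ≫ J.d (p - 1) p) (p + 1)
      (by simp) (by simp [hx]), ?_⟩
    rw [← cancel_mono ((cokernel f).iCycles p)]
    simp only [Category.assoc, HomologicalComplex.cyclesMap_i,
      HomologicalComplex.liftCycles_i_assoc, Preadditive.add_comp]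
    rw [hy, Preadditive.comp_add, reassoc_of% hu, ← (cokernel.π f).comm]

/-- Splicing short exact sequences gives resolutions. -/
lemma isInjResolutionVia {B : Type*} [Category B] [Abelian B] (Φ : B ⥤ A) [Φ.PreservesZeroMorphisms]
    (I : CochainComplex B ℤ) (hI : ∀ q : ℤ, q < 0 → IsZero (I.X q)) (M : ℕ → B)
    (a : ∀ k : ℕ, M k ⟶ I.X (k : ℤ)) (b : ∀ k : ℕ, I.X (k : ℤ) ⟶ M (k + 1))
    (w : ∀ k, a k ≫ b k = 0) (hd : ∀ k : ℕ, I.d (k : ℤ) ((k + 1 : ℕ) : ℤ) = b k ≫ a (k + 1))
    (hS : ∀ k, ((ShortComplex.mk (a k) (b k) (w k)).map Φ).ShortExact)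
    (hinj : ∀ k : ℕ, Injective (Φ.obj (I.X (k : ℤ)))) :
    CE.IsInjResolutionVia ((Φ.mapHomologicalComplex (ComplexShape.up ℤ)).obj I) (Φ.obj (M 0))
      (Φ.map (a 0)) := by
  let C := (Φ.mapHomologicalComplex (ComplexShape.up ℤ)).obj I
  have hm : ∀ k, Mono (Φ.map (a k)) := fun k => (hS k).mono_f
  have he : ∀ k, Epi (Φ.map (b k)) := fun k => (hS k).epi_g
  have wz : ∀ k, Φ.map (a k) ≫ C.d (k : ℤ) ((k + 1 : ℕ) : ℤ) = 0 := fun k => by
    change Φ.map (a k) ≫ Φ.map (I.d _ _) = 0
    rw [hd, ← Φ.map_comp, reassoc_of% (w k), zero_comp, Φ.map_zero]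
  have hex : ∀ k, (ShortComplex.mk _ _ (wz k)).Exact := fun k => by
    let ψ : (ShortComplex.mk (a k) (b k) (w k)).map Φ ⟶ ShortComplex.mk _ _ (wz k) :=
      { τ₁ := 𝟙 _, τ₂ := 𝟙 _, τ₃ := Φ.map (a (k + 1)),
        comm₁₂ := (Category.id_comp _).trans (Category.comp_id _).symm,
        comm₂₃ := (Category.id_comp _).trans ((congrArg Φ.map (hd k)).trans (Φ.map_comp _ _)) }
    have : Epi ψ.τ₁ := inferInstanceAs (Epi (𝟙 (Φ.obj (M k))))
    have : IsIso ψ.τ₂ := inferInstanceAs (IsIso (𝟙 (Φ.obj (I.X (k : ℤ)))))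
    have : Mono ψ.τ₃ := hm (k + 1)
    exact (ShortComplex.exact_iff_of_epi_of_isIso_of_mono ψ).1 (hS k).exact
  have hz : ∀ q : ℤ, q < 0 → IsZero (C.X q) := fun q hq => Φ.map_isZero (hI q hq)
  refine ⟨wz 0, (CochainComplex.isStrictlyGE_iff _ _).2 hz, fun q => ?_, fun q hq => ?_, hm 0, hex 0⟩
  · obtain hq | hq := lt_or_ge q 0
    · exact (hz q hq).injective
    · obtain ⟨k, rfl⟩ := Int.eq_ofNat_of_zero_le hq
      exact hinj k
  · obtain hq' | hq' := lt_or_gt_of_ne hq
    · exact ShortComplex.exact_of_isZero_X₂ _ (hz q hq')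
    · obtain ⟨k, rfl⟩ : ∃ k : ℕ, q = ((k + 1 : ℕ) : ℤ) := ⟨(q - 1).toNat, by omega⟩
      rw [HomologicalComplex.exactAt_iff' _ (k : ℤ) ((k + 1 : ℕ) : ℤ) ((k + 1 + 1 : ℕ) : ℤ)
        (by simp) (by simp)]
      let ψ : C.sc' (k : ℤ) ((k + 1 : ℕ) : ℤ) ((k + 1 + 1 : ℕ) : ℤ) ⟶
          ShortComplex.mk _ _ (wz (k + 1)) :=
        { τ₁ := Φ.map (b k), τ₂ := 𝟙 _, τ₃ := 𝟙 _,
          comm₁₂ := ((Φ.map_comp _ _).symm.trans (congrArg Φ.map (hd k).symm)).trans
            (Category.comp_id _).symm,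
          comm₂₃ := (Category.id_comp _).trans (Category.comp_id _).symm }
      have : Epi ψ.τ₁ := he k
      have : IsIso ψ.τ₂ := inferInstanceAs (IsIso (𝟙 (C.X ((k + 1 : ℕ) : ℤ))))
      have : Mono ψ.τ₃ := inferInstanceAs (Mono (𝟙 (C.X ((k + 1 + 1 : ℕ) : ℤ))))
      exact (ShortComplex.exact_iff_of_epi_of_isIso_of_mono ψ).2 (hex (k + 1))

theorem exists_resolution (K : CochainComplex A ℤ) (n : ℤ) [hK : K.IsStrictlyGE n] :
    ∃ (I : CochainComplex (CochainComplex A ℤ) ℤ) (ε : K ⟶ I.X 0) (_ : ε ≫ I.d 0 1 = 0),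
      (∃ i : ℤ, ∀ p q : ℤ, p < i → IsZero ((I.X q).X p)) ∧
      (∀ p : ℤ, CE.IsInjResolutionVia (((HomologicalComplex.eval A (ComplexShape.up ℤ) p).mapHomologicalComplex (ComplexShape.up ℤ)).obj I) (K.X p) (ε.f p)) ∧
      (∀ p : ℤ, CE.IsInjResolutionVia (((HomologicalComplex.cyclesFunctor A (ComplexShape.up ℤ) p).mapHomologicalComplex (ComplexShape.up ℤ)).obj I) (K.cycles p) (HomologicalComplex.cyclesMap ε p)) ∧
      (∀ p : ℤ, CE.IsInjResolutionVia (((HomologicalComplex.homologyFunctor A (ComplexShape.up ℤ) p).mapHomologicalComplex (ComplexShape.up ℤ)).obj I) (K.homology p) (HomologicalComplex.homologyMap ε p)) := by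
  choose J M' f g w hJ i₁ i₂ i₃ s₁ s₂ s₃ using exists_step (A := A) n
  let M : ℕ → Stage (A := A) n := fun k => Nat.rec ⟨K, hK⟩ (fun _ m => M' m) k
  let X : ℤ → CochainComplex A ℤ := fun q => match q with
    | Int.ofNat k => J (M k)
    | Int.negSucc _ => 0
  let d : ∀ q : ℤ, X q ⟶ X (q + 1) := fun q => match q with
    | Int.ofNat k => g (M k) ≫ f (M (k + 1))
    | Int.negSucc _ => 0
  have sq : ∀ q, d q ≫ d (q + 1) = 0 := fun q => match q with
    | Int.ofNat k => by
      change (g (M k) ≫ f (M (k + 1))) ≫ g (M (k + 1)) ≫ f (M (k + 1 + 1)) = 0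
      rw [Category.assoc, reassoc_of% (w (M (k + 1))), zero_comp, comp_zero]
    | Int.negSucc _ => zero_comp
  let I := CochainComplex.of X d sq
  have hd : ∀ k : ℕ, I.d (k : ℤ) ((k + 1 : ℕ) : ℤ) = g (M k) ≫ f (M (k + 1)) := fun k =>
    CochainComplex.of_d X d (Int.ofNat k)
  have hI : ∀ q : ℤ, q < 0 → IsZero (I.X q) := fun q hq => by
    rcases q with k | k
    · exact absurd hq (Int.not_lt.mpr (Int.natCast_nonneg k))
    · exact isZero_zero _
  refine ⟨I, f (M 0), ?_, ⟨n, fun p q hp => ?_⟩, fun p => ?_, fun p => ?_, fun p => ?_⟩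
  · change f (M 0) ≫ I.d ((0 : ℕ) : ℤ) ((0 + 1 : ℕ) : ℤ) = 0
    rw [hd, reassoc_of% (w (M 0)), zero_comp]
  · rcases q with k | k
    · have := hJ (M k)
      exact (J (M k)).isZero_of_isStrictlyGE n p hp
    · exact (HomologicalComplex.eval A _ p).map_isZero (isZero_zero _)
  · exact isInjResolutionVia (HomologicalComplex.eval A (ComplexShape.up ℤ) p) I hI
      (fun k => (M k).obj) (fun k => f (M k)) (fun k => g (M k)) (fun k => w (M k)) hd
      (fun k => s₁ (M k) p) (fun k => i₁ (M k) p)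
  · exact isInjResolutionVia (HomologicalComplex.cyclesFunctor A (ComplexShape.up ℤ) p) I hI
      (fun k => (M k).obj) (fun k => f (M k)) (fun k => g (M k)) (fun k => w (M k)) hd
      (fun k => s₂ (M k) p) (fun k => i₂ (M k) p)
  · exact isInjResolutionVia (HomologicalComplex.homologyFunctor A (ComplexShape.up ℤ) p) I hI
      (fun k => (M k).obj) (fun k => f (M k)) (fun k => g (M k)) (fun k => w (M k)) hd
      (fun k => s₃ (M k) p) (fun k => i₃ (M k) p)

end Groth.Agent.Lib.CERes.Basic
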